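import Groth.Agent.MagnetBundle.Open
import Mathlib.AlgebraicGeometry.Cover.Open

/-!
# Affine charts of attractors
-/

set_option autoImplicit false
set_option linter.style.haveILetI false
universe u

open CategoryTheory CategoryTheory.Limits MonoidalCategory CartesianMonoidalCategory MonObj AlgebraicGeometry Opposite
open Magnet Groth.MiscGeom.Mag

noncomputable section

namespace Groth.MagnetBundle

section Monoid

variable {S : Scheme.{u}} {M : Type} [AddCommMonoid M] {R : CommRingCat.{u}} (str : Spec R ⟶ S)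
  {Y : Over S} [IsAffineHom Y.hom] (b : MonAct (AMonS S M) Y)

/-- the point of `Y` given by `τ` -/
abbrev gPt {C : CommRingCat.{u}} (τ : gB str Y ⟶ C) : Over.mk (Spec.map (gGam str Y ≫ τ) ≫ str) ⟶ Y :=
  Over.homMk (Spec.map τ ≫ (gX0 str Y).left) (by
    rw [Category.assoc, Over.w (gX0 str Y)]
    show Spec.map τ ≫ Spec.map (gGam str Y) ≫ str = _
    rw [← Spec.map_comp_assoc]
    rfl)

/-- the ideal of the attractor -/
abbrev gIdeal (N : AddSubmonoid M) : Ideal (gB str Y) :=
  Ideal.span {c | ∃ x, ∃ m : Multiplicative M, m.toAdd ∉ N ∧ c = ((gDelta str b).hom x).coeff m}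

theorem good_gPt_iff (N : AddSubmonoid M) {C : CommRingCat.{u}} (τ : gB str Y ⟶ C) :
    Good N b (gPt str τ) ↔ gIdeal str b N ≤ RingHom.ker τ.hom := by
  let str₁ : Spec C ⟶ S := Spec.map (gGam str Y ≫ τ) ≫ str
  rw [good_affine_iff N b (A := C) str₁ (gPt str τ),
    show (specMA (A := C) str₁ M).hom ≫ ((AMonS S M ◁ gPt str τ) ≫ b.act).left =
      Spec.map (gDelta str b ≫ maBase τ M) ≫ (gX0 str Y).left from orbit_eq str b str₁ τ (gPt str τ) rfl]
  have hγ : gGam str Y ≫ gDelta str b ≫ maBase τ M = (gGam str Y ≫ τ) ≫ maConst C M := by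
    rw [reassoc_of% (gGam_gDelta str b), maConst_maBase, Category.assoc]
  have h1 : (∃ χ : Spec (MA C N) ⟶ Y.left, χ ≫ Y.hom = Spec.map (maConst C N) ≫ str₁ ∧
      Spec.map (maMap C N.subtype) ≫ χ = Spec.map (gDelta str b ≫ maBase τ M) ≫ (gX0 str Y).left) ↔
      ∃ ψ : gB str Y ⟶ MA C N, ψ ≫ maMap C N.subtype = gDelta str b ≫ maBase τ M := by
    constructor
    · rintro ⟨χ, h1, h2⟩
      obtain ⟨ψ, hψ1, hψ2⟩ := exists_gHom str Y χ ((gGam str Y ≫ τ) ≫ maConst C N)
        (h1.trans (by rw [Spec.map_comp (_ ≫ τ), Category.assoc]))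
      refine ⟨ψ, gHom_ext str Y ?_ ?_⟩
      · rw [reassoc_of% hψ1, hγ, maConst_naturality]
        simp only [Category.assoc]
      · rw [Spec.map_comp, Category.assoc, hψ2, h2]
    · rintro ⟨ψ, hψ⟩
      refine ⟨Spec.map ψ ≫ (gX0 str Y).left, ?_, by rw [← Spec.map_comp_assoc, hψ]⟩
      rw [Category.assoc, Over.w (gX0 str Y)]
      show Spec.map ψ ≫ Spec.map (gGam str Y) ≫ str = Spec.map (maConst C N) ≫ Spec.map (gGam str Y ≫ τ) ≫ str
      rw [← Spec.map_comp_assoc, ← Spec.map_comp_assoc]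
      congr 2
      refine CommRingCat.hom_ext (RingHom.ext fun r => maMap_injective (A := C) N.subtype Subtype.val_injective ?_)
      have h3 : (gGam str Y ≫ ψ) ≫ maMap C N.subtype = ((gGam str Y ≫ τ) ≫ maConst C N) ≫ maMap C N.subtype := by
        rw [Category.assoc, hψ, hγ, Category.assoc (_ ≫ τ), maConst_naturality]
      exact DFunLike.congr_fun (congrArg CommRingCat.Hom.hom h3) r
  rw [h1, exists_comp_maMap_iff C N.subtype Subtype.val_injective, Ideal.span_le]
  have hr : ∀ m : Multiplicative M, m ∈ Set.range (AddMonoidHom.toMultiplicative N.subtype) ↔ m.toAdd ∈ N :=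
    fun m => ⟨fun ⟨y, hy⟩ => hy ▸ y.toAdd.2, fun h => ⟨Multiplicative.ofAdd ⟨m.toAdd, h⟩, rfl⟩⟩
  constructor
  · rintro h _ ⟨x, m, hm, rfl⟩
    exact ((MonoidAlgebra.coeff_mapRingHom τ.hom _ m).symm.trans (h x m fun h' => hm ((hr m).1 h')) :)
  · intro h x m hm
    exact (MonoidAlgebra.coeff_mapRingHom τ.hom _ m).trans (h ⟨x, m, fun h' => hm ((hr m).2 h'), rfl⟩)

theorem gDelta_counit (x : gB str Y) : (((gDelta str b).hom x).coeff).sum (fun _ y => y) = x := by
  let B := gB str Y
  let aug : MA B M ⟶ B := CommRingCat.ofHom (MonoidAlgebra.lift B B (Multiplicative M) 1).toRingHom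
  have haug : ∀ z : MA B M, aug.hom z = z.coeff.sum (fun _ y => y) := fun z => by
    induction z using MonoidAlgebra.induction_linear with
    | zero => simp
    | add z w hz hw =>
      rw [map_add, hz, hw, MonoidAlgebra.coeff_add, Finsupp.sum_add_index' (fun _ => rfl) (fun _ _ _ => rfl)]
    | single g c => simp [aug, MonoidAlgebra.lift_single]
  have h1 : maConst B M ≫ aug = 𝟙 B := CommRingCat.hom_ext (RingHom.ext fun c => by
    simp [aug, maConst]
    rfl)
  let str0 : Spec B ⟶ S := Spec.map (gGam str Y) ≫ str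
  let z : Over.mk str0 ⟶ spMA str0 M := Over.homMk (Spec.map aug) (by
    show Spec.map aug ≫ Spec.map (maConst B M) ≫ str0 = str0
    rw [← Spec.map_comp_assoc, h1]
    exact (congrArg (· ≫ str0) (Spec.map_id _)).trans (Category.id_comp _))
  have hz : z ≫ (specMAIso str0 M).hom = lift 1 (𝟙 _) := by
    refine specMAIso_lift str0 aug (𝟙 _) z (Category.id_comp _).symm _ _ ?_ fun m => ?_
    · rw [h1, Spec.map_id, Category.comp_id]
      rfl
    · rw [pv_one, Scheme.Hom.id_appTop]
      show _ = (Scheme.ΓSpecIso B).inv.hom _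
      rw [haug, MonoidAlgebra.coeff_single, Finsupp.sum_single_index rfl, map_one]
  have h : gDelta str b ≫ aug = 𝟙 B := by
    refine gHom_ext str Y ?_ ?_
    · rw [reassoc_of% (gGam_gDelta str b), h1]
    · rw [Spec.map_comp, Category.assoc, specMap_gDelta, Spec.map_id, Category.id_comp]
      have e : (z ≫ (specMAIso str0 M).hom ≫ (AMonS S M ◁ gX0 str Y) ≫ b.act) = gX0 str Y := by
        rw [reassoc_of% hz, lift_whiskerLeft_assoc, Category.id_comp, MonAct.lift_one_act]
      exact congrArg CommaMorphism.left e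
  rw [← haug]
  exact DFunLike.congr_fun (congrArg CommRingCat.Hom.hom h) x

set_option maxHeartbeats 1000000 in
open Classical in
theorem eval_e0 (N : AddSubmonoid M) {C : CommRingCat.{u}} (τ τ' : gB str Y ⟶ C)
    (hτ' : ∀ x, τ'.hom x = τ.hom (((gDelta str b).hom x).coeff.sum
      fun m y => if m.toAdd ∈ unitFace N then y else 0))
    (φ : (attr b N).obj (op (Over.mk (Spec.map (gGam str Y ≫ τ) ≫ str))))
    (hφ : (attrToX b N).app _ φ = gPt str τ) :
    (lift (e0 N _) (𝟙 _) ≫ φ.1).left = Spec.map τ' ≫ (gX0 str Y).left := by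
  let str₁ : Spec C ⟶ S := Spec.map (gGam str Y ≫ τ) ≫ str
  let u1 := specMAIso str₁ N
  obtain ⟨ψ, hψ1, hψ2⟩ := exists_gHom str Y (u1.hom ≫ φ.1).left ((gGam str Y ≫ τ) ≫ maConst C N) (by
    refine (Over.w (u1.hom ≫ φ.1)).trans ?_
    show Spec.map (maConst C N) ≫ Spec.map (gGam str Y ≫ τ) ≫ str = _
    rw [Spec.map_comp (_ ≫ τ), Category.assoc])
  have hψ : ψ ≫ maMap C N.subtype = gDelta str b ≫ maBase τ M := by
    refine gHom_ext str Y ?_ ?_
    · rw [reassoc_of% hψ1, reassoc_of% (gGam_gDelta str b), maConst_maBase, maConst_naturality]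
    · rw [Spec.map_comp, Category.assoc, hψ2]
      refine Eq.trans ?_ (orbit_eq str b str₁ τ (gPt str τ) rfl)
      rw [Over.comp_left, ← Category.assoc]
      show (Spec.map (maMap C N.subtype) ≫ (specMA str₁ N).hom) ≫ φ.1.left = _
      rw [← specMA_whiskerRight str₁ N.subtype, Category.assoc]
      refine congrArg (_ ≫ ·) (congrArg CommaMorphism.left ((key_evalAt (AMonS.map S N.subtype) b φ).trans ?_))
      exact congrArg (fun q => (AMonS S M ◁ q) ≫ b.act) hφ
  let ev0 : MA C N ⟶ C := CommRingCat.ofHom (MonoidAlgebra.lift C C (Multiplicative N)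
    { toFun := fun k => if (k.toAdd : M) ∈ unitFace N then 1 else 0
      map_one' := if_pos (zero_mem _)
      map_mul' := fun k l => by
        have := (isFace_unitFace N).add_mem_iff k.toAdd.2 l.toAdd.2
        rw [show ((k * l).toAdd : M) = (k.toAdd : M) + (l.toAdd : M) from rfl]
        by_cases hk : (k.toAdd : M) ∈ unitFace N <;> by_cases hl : (l.toAdd : M) ∈ unitFace N <;>
          simp [hk, hl, this] }).toRingHom
  have hev : ∀ (k : Multiplicative N) (c : C), ev0.hom (MonoidAlgebra.single k c) =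
      if (k.toAdd : M) ∈ unitFace N then c else 0 := fun k c => by
    show MonoidAlgebra.lift C C (Multiplicative N) _ (MonoidAlgebra.single k c) = _
    rw [MonoidAlgebra.lift_single]
    simp
  have hev1 : maConst C N ≫ ev0 = 𝟙 C := CommRingCat.hom_ext (RingHom.ext fun c => by
    show ev0.hom (MonoidAlgebra.single 1 c) = c
    rw [hev, if_pos]
    exact zero_mem _)
  let z : Over.mk str₁ ⟶ spMA str₁ N := Over.homMk (Spec.map ev0) (by
    show Spec.map ev0 ≫ Spec.map (maConst C N) ≫ str₁ = str₁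
    rw [← Spec.map_comp_assoc, hev1]
    exact (congrArg (· ≫ str₁) (Spec.map_id _)).trans (Category.id_comp _))
  have hz : z ≫ u1.hom = lift (e0 N (Over.mk str₁)) (𝟙 _) := by
    refine specMAIso_lift str₁ ev0 (𝟙 _) z (Category.id_comp _).symm _ _ ?_ fun k => ?_
    · rw [hev1, Spec.map_id, Category.comp_id]
      rfl
    · rw [pv_e0, hev, Scheme.Hom.id_appTop]
      show _ = (Scheme.ΓSpecIso C).inv.hom _
      split_ifs <;> simp <;> rfl
  have hτ : τ' = ψ ≫ ev0 := by
    refine CommRingCat.hom_ext (RingHom.ext fun x => ?_)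
    have key : ∀ z : MA C N, ev0.hom z =
        ((maMap C N.subtype).hom z).coeff.sum fun m y => if m.toAdd ∈ unitFace N then y else 0 := fun z => by
      induction z using MonoidAlgebra.induction_linear with
      | zero => simp
      | add z w hz hw =>
        rw [map_add, hz, hw, map_add, MonoidAlgebra.coeff_add, Finsupp.sum_add_index' (fun _ => by simp)
          (fun _ _ _ => by split_ifs <;> simp)]
      | single g c =>
        rw [hev]
        show _ = (MonoidAlgebra.mapDomain _ (MonoidAlgebra.single g c)).coeff.sum _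
        rw [MonoidAlgebra.mapDomain_single, MonoidAlgebra.coeff_single, Finsupp.sum_single_index (by simp)]
        rfl
    show τ'.hom x = ev0.hom (ψ.hom x)
    rw [hτ', key, show (maMap C N.subtype).hom (ψ.hom x) = (maBase τ M).hom ((gDelta str b).hom x) from
      DFunLike.congr_fun (congrArg CommRingCat.Hom.hom hψ) x, map_finsuppSum]
    show _ = Finsupp.sum (MonoidAlgebra.coeff (MonoidAlgebra.mapRingHom _ τ.hom _)) _
    rw [show MonoidAlgebra.coeff (MonoidAlgebra.mapRingHom (Multiplicative M) τ.hom ((gDelta str b).hom x)) =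
      ((gDelta str b).hom x).coeff.mapRange τ.hom (map_zero _) from Finsupp.ext fun m =>
        MonoidAlgebra.coeff_mapRingHom τ.hom _ m, Finsupp.sum_mapRange_index (fun _ => by simp)]
    refine Finsupp.sum_congr fun m _ => ?_
    split_ifs <;> simp
  have h : Spec.map τ' ≫ (gX0 str Y).left = Spec.map ev0 ≫ (u1.hom ≫ φ.1).left := by
    rw [hτ, Spec.map_comp, Category.assoc, hψ2]
  exact (congrArg CommaMorphism.left ((Category.assoc _ _ _).symm.trans (congrArg (· ≫ φ.1) hz)).symm).trans h.symm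

theorem attrToX_attrFace {X : Over S} (a : MonAct (AMonS S M) X) (N : AddSubmonoid M) {T : Over S}
    (φ : (attr a N).obj (op T)) :
    (attrToX a (unitFace N)).app (op T) ((attrFace a (isFace_unitFace N)).app (op T) φ) =
      lift (e0 N T) (𝟙 T) ≫ φ.1 := by
  show lift (toUnit T ≫ η[AMonS S (unitFace N)]) (𝟙 T) ≫ (AMonS.faceMap S (isFace_unitFace N) ▷ T) ≫ φ.1 = _
  rw [lift_whiskerRight_assoc]
  rfl

/-- evaluation of the universal point at `e0` -/
abbrev evPt {X : Over S} {a : MonAct (AMonS S M) X} {N : AddSubmonoid M} {Z : Over S}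
    (e : (attr a N).RepresentableBy Z) : Z ⟶ X :=
  lift (e0 N Z) (𝟙 Z) ≫ (e.homEquiv (𝟙 Z)).1

theorem comp_evPt {X : Over S} {a : MonAct (AMonS S M) X} {N : AddSubmonoid M} {Z : Over S}
    (e : (attr a N).RepresentableBy Z) {T : Over S} (z : T ⟶ Z) :
    z ≫ evPt e = lift (e0 N T) (𝟙 T) ≫ (e.homEquiv z).1 := by
  rw [e.homEquiv_eq z]
  show z ≫ lift _ _ ≫ _ = lift _ _ ≫ (AMonS S N ◁ z) ≫ _
  rw [comp_lift_assoc, comp_e0, lift_whiskerLeft_assoc, Category.id_comp, Category.comp_id]

end Monoid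

section Group

variable {S : Scheme.{u}} {M : Type} [AddCommGroup M] {R : CommRingCat.{u}} (str : Spec R ⟶ S)
variable {X : Over S} {a : MonAct (AMonS S M) X} {V : X.left.Opens} [IsAffineHom (Over.mk (V.ι ≫ X.hom)).hom]

set_option maxHeartbeats 1000000 in
/-- The affine chart of the attractor over a stable `S`-affine open and an open of `S`. -/
theorem exists_chart [IsOpenImmersion str] (hV : Stable a V)
    (bV : MonAct (AMonS S M) (Over.mk (V.ι ≫ X.hom)))
    (hb : MonAct.IsEquivariant bV a (Over.homMk V.ι rfl : Over.mk (V.ι ≫ X.hom) ⟶ X))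
    (N : AddSubmonoid M) {Z : Over S} (e : (attr a N).RepresentableBy Z) :
    ∃ z : Over.mk (Spec.map (gGam str _ ≫ CommRingCat.ofHom (Ideal.Quotient.mk (gIdeal str bV N))) ≫ str) ⟶ Z,
      IsOpenImmersion z.left ∧
      Set.range z.left = {p | (evPt e).left p ∈ V ∧ Z.hom p ∈ Set.range str} ∧
      ∃ ψ : (attr bV N).obj (op _),
        (MonAct.eqvHom.postcomp (subAct S M N) _ hb).app _ ψ = e.homEquiv z ∧
        (attrToX bV N).app _ ψ = gPt str (CommRingCat.ofHom (Ideal.Quotient.mk (gIdeal str bV N))) := by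
  let Y : Over S := Over.mk (V.ι ≫ X.hom)
  let ιV : Y ⟶ X := Over.homMk V.ι rfl
  haveI : Mono ιV := (Over.forget S).mono_of_mono_map (inferInstanceAs (Mono V.ι))
  haveI : IsSeparated Y.hom := inferInstance
  let I := gIdeal str bV N
  let q : gB str Y ⟶ CommRingCat.of (gB str Y ⧸ I) := CommRingCat.ofHom (Ideal.Quotient.mk I)
  let T₀ : Over S := Over.mk (Spec.map (gGam str Y ≫ q) ≫ str)
  obtain ⟨ψ, hψ⟩ := (good_iff N bV (gPt str q)).1 ((good_gPt_iff str bV N q).2
    (fun c hc => Ideal.Quotient.eq_zero_iff_mem.2 hc))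
  let z : T₀ ⟶ Z := e.homEquiv.symm ((MonAct.eqvHom.postcomp (subAct S M N) ιV hb).app _ ψ)
  have hez : e.homEquiv z = (MonAct.eqvHom.postcomp (subAct S M N) ιV hb).app _ ψ := e.homEquiv.apply_symm_apply _
  -- the image of the chart
  have himg : ∀ p : T₀.left, (evPt e).left (z.left p) ∈ V := fun p => by
    rw [← Scheme.Hom.comp_apply, ← Over.comp_left, comp_evPt, hez]
    show ((lift (e0 N T₀) (𝟙 T₀) ≫ ψ.1 ≫ ιV).left p) ∈ V
    rw [← Category.assoc, Over.comp_left, Scheme.Hom.comp_apply]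
    exact ((lift (e0 N T₀) (𝟙 T₀) ≫ ψ.1).left p).2
  -- lifting through the chart
  haveI hq : IsClosedImmersion (Spec.map q) :=
    IsClosedImmersion.spec_of_surjective q Ideal.Quotient.mk_surjective
  have hlift : ∀ {T : Over S} (t : T ⟶ Z), (∀ p, (evPt e).left (t.left p) ∈ V) →
      Set.range T.hom ⊆ Set.range str → ∃ l : T ⟶ T₀, l ≫ z = t := by
    intro T t h1 h2
    obtain ⟨φ, hφ⟩ := exists_attr_lift a hV bV hb N (e.homEquiv t) (fun p => by
      have := h1 p
      rw [← Scheme.Hom.comp_apply, ← Over.comp_left, comp_evPt] at this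
      exact this)
    let y : T ⟶ Y := (attrToX bV N).app (op T) φ
    let t0 : T.left ⟶ Spec R := IsOpenImmersion.lift str T.hom h2
    have ht0 : t0 ≫ str = T.hom := IsOpenImmersion.lift_fac _ _ _
    let u : T.left ⟶ Spec (gB str Y) := pullback.lift y.left t0 ((Over.w y).trans ht0.symm) ≫ (gIso str Y).hom
    have hu1 : u ≫ (gX0 str Y).left = y.left := by
      show (pullback.lift _ _ _ ≫ (gIso str Y).hom) ≫ (gIso str Y).inv ≫ pullback.fst Y.hom str = _
      rw [Category.assoc, Iso.hom_inv_id_assoc, pullback.lift_fst]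
    have hu2 : u ≫ Spec.map (gGam str Y) = t0 := by
      show (pullback.lift _ _ _ ≫ (gIso str Y).hom) ≫ _ = _
      rw [specMap_gGam, Category.assoc, Iso.hom_inv_id_assoc, pullback.lift_snd]
    clear_value u t0
    let σ : gB str Y ⟶ Γ(T.left, ⊤) := (Scheme.ΓSpecIso (gB str Y)).inv ≫ u.appTop
    have hσ : ∀ c ∈ I, σ.hom c = 0 := fun c hc => by
      refine T.left.affineCover.ext_elem _ 0 fun i => ?_
      rw [map_zero]
      let τ : gB str Y ⟶ Γ(T.left.affineCover.X i, ⊤) := σ ≫ (T.left.affineCover.f i).appTop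
      show τ.hom c = 0
      have hτi : (T.left.affineCover.X i).isoSpec.hom ≫ Spec.map τ = T.left.affineCover.f i ≫ u := by
        show (T.left.affineCover.X i).toSpecΓ ≫ _ = _
        rw [Spec.map_comp, Spec.map_comp, ← Scheme.toSpecΓ_naturality_assoc, ← Scheme.toSpecΓ_naturality_assoc,
          ← SpecMap_ΓSpecIso_hom, ← Spec.map_comp, Iso.inv_hom_id, Spec.map_id, Category.comp_id]
      let w : Over.mk (Spec.map (gGam str Y ≫ τ) ≫ str) ⟶ T :=
        Over.homMk ((T.left.affineCover.X i).isoSpec.inv ≫ T.left.affineCover.f i) (by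
          show _ ≫ T.hom = Spec.map (gGam str Y ≫ τ) ≫ str
          rw [← ht0, Category.assoc, ← hu2, Spec.map_comp, Category.assoc, Category.assoc,
            ← reassoc_of% hτi, Iso.inv_hom_id_assoc])
      have hwy : w ≫ y = gPt str τ := by
        refine Over.OverMorphism.ext ?_
        show ((T.left.affineCover.X i).isoSpec.inv ≫ T.left.affineCover.f i) ≫ y.left = Spec.map τ ≫ _
        rw [← hu1, Category.assoc, ← reassoc_of% hτi, Iso.inv_hom_id_assoc]
      have hgood : Good N bV (gPt str τ) := hwy ▸ ((good_iff N bV y).2 ⟨φ, rfl⟩).comp N bV w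
      exact (good_gPt_iff str bV N τ).1 hgood hc
    let σ' : CommRingCat.of (gB str Y ⧸ I) ⟶ Γ(T.left, ⊤) :=
      CommRingCat.ofHom (Ideal.Quotient.lift I σ.hom hσ)
    have hσ' : q ≫ σ' = σ := CommRingCat.hom_ext (RingHom.ext fun c => (Ideal.Quotient.lift_mk I σ.hom hσ :))
    have hu : T.left.toSpecΓ ≫ Spec.map σ' ≫ Spec.map q = u := by
      rw [← Spec.map_comp, hσ', Spec.map_comp, ← Scheme.toSpecΓ_naturality_assoc, ← SpecMap_ΓSpecIso_hom,
        ← Spec.map_comp, Iso.inv_hom_id, Spec.map_id, Category.comp_id]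
    let l : T ⟶ T₀ := Over.homMk (T.left.toSpecΓ ≫ Spec.map σ') (by
      show (T.left.toSpecΓ ≫ Spec.map σ') ≫ Spec.map (gGam str Y ≫ q) ≫ str = T.hom
      rw [Spec.map_comp, Category.assoc, Category.assoc, reassoc_of% hu, reassoc_of% hu2, ht0])
    refine ⟨l, e.homEquiv.injective ?_⟩
    rw [e.homEquiv_comp, hez, ← hφ]
    refine (NatTrans.naturality_apply (MonAct.eqvHom.postcomp (subAct S M N) ιV hb) l.op ψ :).symm.trans ?_
    congr 1
    refine attrToX_injective N bV ?_
    refine ((NatTrans.naturality_apply (attrToX bV N) l.op ψ :).trans ?_)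
    show l ≫ (attrToX bV N).app _ ψ = y
    refine (congrArg (l ≫ ·) hψ).trans ?_
    refine Over.OverMorphism.ext ?_
    show (T.left.toSpecΓ ≫ Spec.map σ') ≫ Spec.map q ≫ (gX0 str Y).left = y.left
    rw [Category.assoc, reassoc_of% hu, hu1]
  -- `z` is a monomorphism
  have hmono : ∀ {T : Over S} (l l' : T ⟶ T₀), l ≫ z = l' ≫ z → l = l' := by
    intro T l l' h
    have h1 : (attr bV N).map l.op ψ = (attr bV N).map l'.op ψ := by
      refine Subtype.ext ((cancel_mono ιV).1 ?_)
      have := congrArg (fun t => (e.homEquiv t).1) h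
      simp only [e.homEquiv_comp, hez] at this
      simpa [Category.assoc] using this
    have h2 := congrArg ((attrToX bV N).app (op T)) h1
    rw [NatTrans.naturality_apply, NatTrans.naturality_apply, hψ] at h2
    have h3 : l.left ≫ Spec.map q ≫ (gX0 str Y).left = l'.left ≫ Spec.map q ≫ (gX0 str Y).left :=
      congrArg CommaMorphism.left h2
    have h4 : l.left ≫ Spec.map (gGam str Y ≫ q) = l'.left ≫ Spec.map (gGam str Y ≫ q) := by
      rw [← cancel_mono str, Category.assoc, Category.assoc]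
      exact (Over.w l).trans (Over.w l').symm
    refine Over.OverMorphism.ext ((cancel_mono (Spec.map q)).1 ((cancel_mono (gIso str Y).inv).1
      (pullback.hom_ext ?_ ?_)))
    · simp only [Category.assoc]
      exact h3
    · simp only [Category.assoc, ← specMap_gGam, ← Spec.map_comp]
      exact h4
  -- `z` is an isomorphism onto an open
  let O : Z.left.Opens := ((evPt e).left ⁻¹ᵁ V) ⊓ (Z.hom ⁻¹ᵁ str.opensRange)
  have hzO : Set.range z.left ⊆ O := by
    rintro _ ⟨p, rfl⟩
    refine ⟨himg p, ?_⟩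
    show Z.hom (z.left p) ∈ str.opensRange
    rw [← Scheme.Hom.comp_apply, Over.w z]
    exact ⟨(Spec.map (gGam str Y ≫ q)) p, (Scheme.Hom.comp_apply _ _ _).symm⟩
  let T : Over S := Over.mk (O.ι ≫ Z.hom)
  let t : T ⟶ Z := Over.homMk O.ι rfl
  obtain ⟨l, hl⟩ := hlift t (fun p => p.2.1) (by
    rintro _ ⟨p, rfl⟩
    exact p.2.2)
  let z' : T₀.left ⟶ O.toScheme := IsOpenImmersion.lift O.ι z.left (by rw [Scheme.Opens.range_ι]; exact hzO)
  have hz' : z' ≫ O.ι = z.left := IsOpenImmersion.lift_fac _ _ _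
  have h1 : l.left ≫ z' = 𝟙 _ := by
    rw [← cancel_mono O.ι, Category.assoc, hz', Category.id_comp]
    exact congrArg CommaMorphism.left hl
  let zo : T₀ ⟶ T := Over.homMk z' (by
    show z' ≫ O.ι ≫ Z.hom = T₀.hom
    rw [← Category.assoc, hz', Over.w z])
  have hzo : zo ≫ t = z := Over.OverMorphism.ext hz'
  have h2 : zo ≫ l = 𝟙 _ := hmono _ _ (by rw [Category.assoc, hl, hzo, Category.id_comp])
  let iso : T₀.left ≅ O.toScheme :=
    { hom := z'
      inv := l.left
      hom_inv_id := congrArg CommaMorphism.left h2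
      inv_hom_id := h1 }
  haveI : IsIso z' := iso.isIso_hom
  refine ⟨z, hz' ▸ inferInstance, Set.ext fun p => ⟨fun hp => ?_, fun hp => ?_⟩, ψ, hez.symm, hψ⟩
  · exact hzO hp
  · refine ⟨l.left ⟨p, hp⟩, ?_⟩
    rw [← Scheme.Hom.comp_apply]
    exact congrArg (fun m : T ⟶ Z => m.left ⟨p, hp⟩) hl

end Group

end Groth.MagnetBundle
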