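import Groth.Agent.MagnetEtale.General
import Groth.Agent.MagnetEtale.Descend
import Groth.Agent.MagnetDescent.Fixed

/-!
# Local lifting of attractor points along FPR atlases
-/

set_option autoImplicit false
universe u

open CategoryTheory CategoryTheory.Limits MonoidalCategory CartesianMonoidalCategory MonObj AlgebraicGeometry Opposite
open Magnet Groth.MiscGeom.Mag

noncomputable section

namespace Groth.MagnetBundle

variable {S : Scheme.{u}} {M : Type} [AddCommGroup M] [AddGroup.FG M] {X U : Over S} [IsAffineHom U.hom]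
  {a : MonAct (AMonS S M) X} {aU : MonAct (AMonS S M) U} {g : U ⟶ X} [Etale g.left] [Surjective g.left]

/-- Attractor points lift to an FPR atlas after an étale cover. -/
theorem exists_cover_lift (hg : MonAct.IsEquivariant aU a g) (N : AddSubmonoid M) (Z : AddSubgroup M)
    (hZ : ∀ m : M, m ∈ Z ↔ m ∈ unitFace N)
    (hgZ : MonAct.IsEquivariant (aU.restrict (AMonS.map S (QuotientAddGroup.mk' Z)))
      (a.restrict (AMonS.map S (QuotientAddGroup.mk' Z))) g)
    (hfpr : IsPullback (MonAct.fixedPsh.map g hgZ)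
      (MonAct.fixedPshι (aU.restrict (AMonS.map S (QuotientAddGroup.mk' Z))))
      (MonAct.fixedPshι (a.restrict (AMonS.map S (QuotientAddGroup.mk' Z)))) (yoneda.map g))
    (h : N.FG ∨ (IsSeparated X.hom ∧ LocallyOfFinitePresentation X.hom)) (T : Over S)
    (φ : (attr a N).obj (op T)) :
    ∃ (T' : Over S) (e : T' ⟶ T) (φU : (attr aU N).obj (op T')),
      Groth.Pi1Desc.IsCover e.left ∧ φU.1 ≫ g = (AMonS S N ◁ e) ≫ φ.1 := by
  have hN' : (⊥ : AddSubmonoid (M ⧸ Z)).comap (QuotientAddGroup.mk' Z) = unitFace N := by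
    ext m
    simp [QuotientAddGroup.eq_zero_iff, ← hZ]
  obtain ⟨ebX, hebX⟩ := Groth.MagnetDescent.exists_iso_fixedPsh _ a (unitFace N) hN'
  obtain ⟨ebU, hebU⟩ := Groth.MagnetDescent.exists_iso_fixedPsh _ aU (unitFace N) hN'
  have hιX : ∀ (T : Over S) (ψ : (attr a (unitFace N)).obj (op T)),
      (ebX.hom.app (op T) ψ).1 = (attrToX a (unitFace N)).app (op T) ψ := fun T ψ =>
    (ConcreteCategory.congr_hom (NatTrans.congr_app hebX (op T)) ψ :)
  have hιU : ∀ (T : Over S) (ψ : (attr aU (unitFace N)).obj (op T)),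
      (ebU.hom.app (op T) ψ).1 = (attrToX aU (unitFace N)).app (op T) ψ := fun T ψ =>
    (ConcreteCategory.congr_hom (NatTrans.congr_app hebU (op T)) ψ :)
  let b : T ⟶ X := (attrToX a (unitFace N)).app (op T) ((attrFace a (isFace_unitFace N)).app (op T) φ)
  let T' : Over S := Over.mk (pullback.fst b.left g.left ≫ T.hom)
  let e : T' ⟶ T := Over.homMk (pullback.fst b.left g.left) rfl
  let u : T' ⟶ U := Over.homMk (pullback.snd b.left g.left) (by
    show pullback.snd b.left g.left ≫ U.hom = pullback.fst b.left g.left ≫ T.hom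
    rw [← Over.w g, ← Over.w b, ← Category.assoc, ← Category.assoc, pullback.condition])
  have hub : u ≫ g = e ≫ b := Over.OverMorphism.ext pullback.condition.symm
  let φs : (attr a (unitFace N)).obj (op T') :=
    (attrFace a (isFace_unitFace N)).app (op T') ((attr a N).map e.op φ)
  have hφs : (attrToX a (unitFace N)).app (op T') φs = u ≫ g := by
    rw [hub]
    show (attrToX a (unitFace N)).app (op T')
      ((attrFace a (isFace_unitFace N)).app (op T') ((attr a N).map e.op φ)) = _
    rw [NatTrans.naturality_apply, NatTrans.naturality_apply]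
    rfl
  obtain ⟨p, -, hp⟩ := CategoryTheory.Limits.Types.exists_of_isPullback
    (hfpr.map ((CategoryTheory.evaluation (Over S)ᵒᵖ (Type u)).obj (op T'))) (ebX.hom.app (op T') φs) u
    ((hιX T' φs).trans hφs)
  let us : (attr aU (unitFace N)).obj (op T') := ebU.inv.app (op T') p
  have hus : (attrToX aU (unitFace N)).app (op T') us = u := by
    rw [← hιU, show ebU.hom.app (op T') us = p by simp [us]]
    exact hp
  have husg : us.1 ≫ g = (AMonS.faceMap S (isFace_unitFace N) ▷ T') ≫ (AMonS S N ◁ e) ≫ φ.1 := by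
    have h' : ebX.hom.app (op T') ((MonAct.eqvHom.postcomp (subAct S M (unitFace N)) g hg).app (op T') us) =
        ebX.hom.app (op T') φs := Subtype.ext (by
      rw [hιX, hιX, hφs, ← hus]
      simp only [MonAct.eqvHom.evalAt_app, MonAct.eqvHom.postcomp_app_coe, Category.assoc])
    have h'' := congrArg (fun q => (ebX.inv.app (op T') q).1) h'
    simpa [φs, whisker_exchange_assoc] using h''
  obtain ⟨φU, ⟨hφe, hφf, -⟩, -⟩ :=
    Groth.MagnetEtale.liftsOn (aX := a) (aU := aU) hg (isFace_unitFace N) h T' ((attr a N).map e.op φ).1 us.1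
      ((attr a N).map e.op φ).2 us.2 husg
  exact ⟨T', e, ⟨φU, hφe⟩, Groth.Pi1Desc.IsCover.of_isPullback (p := g.left)
    (IsPullback.of_hasPullback b.left g.left).flip, hφf⟩

/-- Images of attractors in `X` are determined by those in an FPR atlas. -/
theorem exists_attr_of_atlas (hg : MonAct.IsEquivariant aU a g) [IsSeparated X.hom] [LocallyOfFinitePresentation X.hom]
    (N L : AddSubmonoid M) (Z : AddSubgroup M) (hZ : ∀ m : M, m ∈ Z ↔ m ∈ unitFace N)
    (hgZ : MonAct.IsEquivariant (aU.restrict (AMonS.map S (QuotientAddGroup.mk' Z)))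
      (a.restrict (AMonS.map S (QuotientAddGroup.mk' Z))) g)
    (hfpr : IsPullback (MonAct.fixedPsh.map g hgZ)
      (MonAct.fixedPshι (aU.restrict (AMonS.map S (QuotientAddGroup.mk' Z))))
      (MonAct.fixedPshι (a.restrict (AMonS.map S (QuotientAddGroup.mk' Z)))) (yoneda.map g))
    (hU : ∀ (T : Over S) (φ : (attr aU N).obj (op T)), ∃ ψ : (attr aU L).obj (op T),
      (attrToX aU L).app (op T) ψ = (attrToX aU N).app (op T) φ)
    (T : Over S) (φ : (attr a N).obj (op T)) :
    ∃ ψ : (attr a L).obj (op T), (attrToX a L).app (op T) ψ = (attrToX a N).app (op T) φ := by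
  obtain ⟨T', e, φU, he, hφU⟩ := exists_cover_lift hg N Z hZ hgZ hfpr (Or.inr ⟨inferInstance, inferInstance⟩) T φ
  obtain ⟨ψU, hψU⟩ := hU T' φU
  let ψ' : (attr a L).obj (op T') := (MonAct.eqvHom.postcomp (subAct S M L) g hg).app (op T') ψU
  have hψ' : (attrToX a L).app (op T') ψ' = e ≫ (attrToX a N).app (op T) φ := by
    have e1 : (attrToX a L).app (op T') ψ' = (attrToX aU L).app (op T') ψU ≫ g := by
      simp only [ψ', MonAct.eqvHom.evalAt_app, MonAct.eqvHom.postcomp_app_coe, Category.assoc]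
    rw [e1, hψU]
    simp only [MonAct.eqvHom.evalAt_app, Category.assoc, hφU, lift_whiskerLeft_assoc, comp_lift_assoc,
      Category.id_comp, Category.comp_id]
    congr 2
    rw [← Category.assoc, toUnit_unique (e ≫ toUnit T) (toUnit T')]
  have hc : ∀ (T'' : Over S) (g₁ g₂ : T'' ⟶ T'), g₁ ≫ e = g₂ ≫ e →
      (attr a L).map g₁.op ψ' = (attr a L).map g₂.op ψ' := fun T'' g₁ g₂ hgg => by
    refine attrToX_injective L a ?_
    rw [NatTrans.naturality_apply, NatTrans.naturality_apply, hψ']
    exact (Category.assoc _ _ _).symm.trans ((congrArg (· ≫ _) hgg).trans (Category.assoc _ _ _))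
  obtain ⟨ψ, hψ, -⟩ := Groth.MagnetEtale.hasDesc_eqvHom (subAct S M L) a e he ψ' hc
  refine ⟨ψ, ?_⟩
  have := he
  have := Groth.Pi1Desc.IsCover.effectiveEpi e.left
  have : Epi e := Over.epi_of_epi_left _
  rw [← cancel_epi e, ← hψ', ← hψ, NatTrans.naturality_apply]
  rfl

end Groth.MagnetBundle
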