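import Groth.Prelude.Def_Magnet4
import Groth.Agent.PropsBasic.GradedSmooth

/-!
# The graded algebra behind `X^N → X^{N*}` for an affine `X`
-/

set_option autoImplicit false
set_option linter.style.haveILetI false
universe u

open DirectSum

noncomputable section

namespace Groth.MagnetBundle

section Coaction

variable {R : Type u} [CommRing R] {A : Type u} [CommRing A] [Algebra R A] {P : Type} [AddCommMonoid P]
  (δ : A →ₐ[R] MonoidAlgebra A (Multiplicative P))

/-- the pieces of a coaction -/
def piece (p : P) : Submodule R A where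
  carrier := {a | δ a = MonoidAlgebra.single (Multiplicative.ofAdd p) a}
  zero_mem' := by simp
  add_mem' {a b} ha hb := by
    simp only [Set.mem_ofPred_eq, map_add, MonoidAlgebra.single_add] at ha hb ⊢
    rw [ha, hb]
  smul_mem' r a ha := by
    simp only [Set.mem_ofPred_eq, map_smul] at ha ⊢
    rw [ha, MonoidAlgebra.smul_single]

theorem mem_piece {p : P} {a : A} : a ∈ piece δ p ↔ δ a = MonoidAlgebra.single (Multiplicative.ofAdd p) a := Iff.rfl

instance : SetLike.GradedMonoid (piece δ) where
  one_mem := by rw [mem_piece, map_one]; rfl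
  mul_mem i j x y hx hy := by
    rw [mem_piece] at hx hy ⊢
    rw [map_mul, hx, hy, MonoidAlgebra.single_mul_single]
    rfl

theorem isInternal_piece [DecidableEq P]
    (hco : ∀ a m, δ ((δ a).coeff m) = MonoidAlgebra.single m ((δ a).coeff m))
    (hcu : ∀ a, ((δ a).coeff).sum (fun _ x => x) = a) : DirectSum.IsInternal (piece δ) := by
  refine ⟨fun x y hxy => ?_, fun a => ?_⟩
  · have key : ∀ z : ⨁ p, piece δ p, ∀ q, (δ (DirectSum.coeAddMonoidHom (piece δ) z)).coeff
        (Multiplicative.ofAdd q) = z q := by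
      intro z q
      induction z using DirectSum.induction_on with
      | zero => simp
      | of p b =>
        rw [DirectSum.coeAddMonoidHom_of, b.2, MonoidAlgebra.coeff_single]
        by_cases hpq : p = q
        · subst hpq
          rw [Finsupp.single_eq_same, DirectSum.of_eq_same]
        · rw [Finsupp.single_eq_of_ne (fun h => hpq (Multiplicative.ofAdd.injective h).symm),
            DirectSum.of_eq_of_ne _ _ _ (Ne.symm hpq)]
          rfl
      | add z w hz hw => simp [hz, hw]
    refine DirectSum.ext (fun q => Subtype.ext ?_)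
    rw [← key x q, ← key y q, hxy]
  · refine ⟨∑ m ∈ (δ a).coeff.support, DirectSum.of (fun p => piece δ p) m.toAdd ⟨(δ a).coeff m, hco a m⟩, ?_⟩
    rw [map_sum]
    simp only [DirectSum.coeAddMonoidHom_of]
    exact hcu a

theorem exists_gradedAlgebra [DecidableEq P]
    (hco : ∀ a m, δ ((δ a).coeff m) = MonoidAlgebra.single m ((δ a).coeff m))
    (hcu : ∀ a, ((δ a).coeff).sum (fun _ x => x) = a) :
    ∃ _ : GradedAlgebra (piece δ), ∀ a p,
      GradedAlgebra.proj (piece δ) p a = (δ a).coeff (Multiplicative.ofAdd p) := by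
  letI G : GradedAlgebra (piece δ) :=
    { (inferInstance : SetLike.GradedMonoid (piece δ)) with
      toDecomposition := (isInternal_piece δ hco hcu).chooseDecomposition }
  refine ⟨G, fun a p => ?_⟩
  induction a using DirectSum.Decomposition.inductionOn (piece δ) with
  | zero => simp
  | homogeneous x =>
    rw [Groth.GradedSmooth.proj_of_mem _ x.2, x.2, MonoidAlgebra.coeff_single, Finsupp.single_apply]
    simp only [Multiplicative.ofAdd.apply_eq_iff_eq, eq_comm]
  | add x y hx hy => rw [map_add, map_add, hx, hy, MonoidAlgebra.coeff_add, Finsupp.add_apply]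

end Coaction

section Transfer

variable {A A' : Type u} [CommRing A] [CommRing A']

set_option maxHeartbeats 1000000 in
/-- symmetric algebras along an isomorphism of base rings -/
theorem exists_transfer (θ : A' ≃+* A) (Q : Type u) [AddCommGroup Q] [Module A Q] [Module.Finite A Q]
    [Module.Projective A Q] :
    ∃ (_ : Module A' Q), Module.Finite A' Q ∧ Module.Projective A' Q ∧
      ∃ e : SymmetricAlgebra A' Q ≃+* SymmetricAlgebra A Q, ∀ c, e (algebraMap _ _ c) = algebraMap _ _ (θ c) := by
  letI : Algebra A' A := θ.toRingHom.toAlgebra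
  letI : Algebra A A' := θ.symm.toRingHom.toAlgebra
  letI : Module A' Q := Module.compHom Q θ.toRingHom
  haveI : IsScalarTower A' A Q := ⟨fun a b q => by
    show (θ a * b) • q = θ a • (b • q)
    rw [mul_smul]⟩
  haveI hfree : Module.Finite A' A :=
    Module.Finite.of_surjective (Algebra.linearMap A' A) θ.surjective
  haveI : Module.Finite A' Q := Module.Finite.trans A Q
  haveI : Module.Projective A' Q := by
    haveI : RingHomInvPair (θ.symm : A →+* A') (θ : A' →+* A) :=
      RingHomInvPair.of_ringEquiv θ.symm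
    haveI : RingHomInvPair (θ : A' →+* A) (θ.symm : A →+* A') :=
      RingHomInvPair.of_ringEquiv θ
    let e₂ : Q ≃ₛₗ[(θ.symm : A →+* A')] Q :=
      { toFun := id
        invFun := id
        map_add' := fun _ _ => rfl
        map_smul' := fun c q => by
          show c • q = θ (θ.symm c) • q
          rw [θ.apply_symm_apply]
        left_inv := fun _ => rfl
        right_inv := fun _ => rfl }
    exact Module.Projective.of_equiv e₂
  refine ⟨inferInstanceAs (Module A' Q), inferInstance, inferInstance, ?_⟩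
  let S' := SymmetricAlgebra A Q
  let S := SymmetricAlgebra A' Q
  letI : Algebra A' S' := ((algebraMap A S').comp θ.toRingHom).toAlgebra
  letI : Algebra A S := ((algebraMap A' S).comp θ.symm.toRingHom).toAlgebra
  let fι : Q →ₗ[A'] S' :=
    { toFun := SymmetricAlgebra.ι A Q
      map_add' := map_add _
      map_smul' := fun a q => by
        show SymmetricAlgebra.ι A Q (θ a • q) = _
        rw [map_smul, Algebra.smul_def, RingHom.id_apply, Algebra.smul_def]
        rfl }
  let f : S →ₐ[A'] S' := SymmetricAlgebra.lift fι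
  let gι : Q →ₗ[A] S :=
    { toFun := SymmetricAlgebra.ι A' Q
      map_add' := map_add _
      map_smul' := fun c q => by
        obtain ⟨a, rfl⟩ := θ.surjective c
        show SymmetricAlgebra.ι A' Q (a • q) = θ a • SymmetricAlgebra.ι A' Q q
        rw [map_smul, Algebra.smul_def, Algebra.smul_def]
        show algebraMap A' S a * _ = algebraMap A' S (θ.symm (θ a)) * _
        rw [θ.symm_apply_apply] }
  let g : S' →ₐ[A] S := SymmetricAlgebra.lift gι
  have hf : ∀ q, f (SymmetricAlgebra.ι A' Q q) = SymmetricAlgebra.ι A Q q :=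
    SymmetricAlgebra.lift_ι_apply _
  have hg : ∀ q, g (SymmetricAlgebra.ι A Q q) = SymmetricAlgebra.ι A' Q q :=
    SymmetricAlgebra.lift_ι_apply _
  have hfg : ∀ x, f (g x) = x := fun x => by
    induction x using SymmetricAlgebra.induction with
    | algebraMap c =>
      obtain ⟨a, rfl⟩ := θ.surjective c
      rw [g.commutes]
      show f (algebraMap A' S (θ.symm (θ a))) = _
      rw [θ.symm_apply_apply, f.commutes]
      rfl
    | ι q => rw [hg, hf]
    | mul x y hx hy => rw [map_mul, map_mul, hx, hy]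
    | add x y hx hy => rw [map_add, map_add, hx, hy]
  have hgf : ∀ x, g (f x) = x := fun x => by
    induction x using SymmetricAlgebra.induction with
    | algebraMap c =>
      rw [f.commutes]
      show g (algebraMap A S' (θ c)) = _
      rw [g.commutes]
      show algebraMap A' S (θ.symm (θ c)) = _
      rw [θ.symm_apply_apply]
    | ι q => rw [hf, hg]
    | mul x y hx hy => rw [map_mul, map_mul, hx, hy]
    | add x y hx hy => rw [map_add, map_add, hx, hy]
  let e' : S' ≃+* S :=
    { toFun := g, invFun := f, left_inv := hfg, right_inv := hgf, map_mul' := map_mul g, map_add' := map_add g }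
  refine ⟨e'.symm, fun c => ?_⟩
  show f (algebraMap A' S c) = algebraMap A S' (θ c)
  rw [f.commutes]
  rfl

end Transfer

section Bundle

variable {R : Type u} [CommRing R] {M : Type} [AddCommGroup M] (N : AddSubmonoid M)

/-- `N*` as a subgroup -/
def unitsGroup : AddSubgroup M where
  toAddSubmonoid := Magnet.unitFace N
  neg_mem' := by
    rintro x ⟨hx, y, hy, hxy⟩
    rw [neg_eq_of_add_eq_zero_right hxy]
    exact ⟨hy, x, hx, by rw [add_comm]; exact hxy⟩

variable {B : Type u} [CommRing B] [Algebra R B] (δ : B →ₐ[R] MonoidAlgebra B (Multiplicative M))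

/-- the ideal of the components of degree outside `N` -/
def attrIdeal : Ideal B :=
  Ideal.span {c | ∃ b, ∃ m : Multiplicative M, m.toAdd ∉ N ∧ c = (δ b).coeff m}

theorem coeff_mem_attrIdeal (b : B) (m : Multiplicative M) (hm : m.toAdd ∉ N) :
    (δ b).coeff m ∈ attrIdeal N δ := Ideal.subset_span ⟨b, m, hm, rfl⟩

theorem attrIdeal_mono {N N' : AddSubmonoid M} (h : N ≤ N') : attrIdeal N' δ ≤ attrIdeal N δ :=
  Ideal.span_mono fun _ ⟨b, m, hm, e⟩ => ⟨b, m, fun hm' => hm (h hm'), e⟩

open Classical in
/-- the sum of the components of degree in `N*` -/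
def faceSum (b : B) : B :=
  (δ b).coeff.sum fun m x => if m.toAdd ∈ Magnet.unitFace N then x else 0

set_option maxHeartbeats 1000000 in
open Classical in
theorem exists_symmetricAlgebra [Algebra.FiniteType R B]
    (hco : ∀ b m, δ ((δ b).coeff m) = MonoidAlgebra.single m ((δ b).coeff m))
    (hcu : ∀ b, ((δ b).coeff).sum (fun _ x => x) = b)
    [Algebra.Smooth R (B ⧸ attrIdeal N δ)] :
    ∃ κ : (B ⧸ attrIdeal (Magnet.unitFace N) δ) →+* (B ⧸ attrIdeal N δ),
      (∀ b, κ (Ideal.Quotient.mk _ b) = Ideal.Quotient.mk _ (faceSum N δ b)) ∧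
      ∃ (P : Type u) (_ : AddCommGroup P) (_ : Module (B ⧸ attrIdeal (Magnet.unitFace N) δ) P),
        Module.Finite (B ⧸ attrIdeal (Magnet.unitFace N) δ) P ∧
        Module.Projective (B ⧸ attrIdeal (Magnet.unitFace N) δ) P ∧
        ∃ e : (B ⧸ attrIdeal N δ) ≃+* SymmetricAlgebra (B ⧸ attrIdeal (Magnet.unitFace N) δ) P,
          ∀ c, e (κ c) = algebraMap _ _ c := by
  let I := attrIdeal N δ
  let J := attrIdeal (Magnet.unitFace N) δ
  let G := unitsGroup N
  let C := B ⧸ I
  let cl : Multiplicative M →* Multiplicative (M ⧸ G) := AddMonoidHom.toMultiplicative (QuotientAddGroup.mk' G)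
  -- `B → C[M/G]`
  let δ₁ : B →ₐ[R] MonoidAlgebra C (Multiplicative (M ⧸ G)) :=
    ((MonoidAlgebra.mapDomainAlgHom R C cl).comp
      (MonoidAlgebra.mapAlgHom (Multiplicative M) (Ideal.Quotient.mkₐ R I))).comp δ
  have hmd : ∀ (m : Multiplicative M) (x : B),
      (MonoidAlgebra.mapDomainAlgHom R C cl).comp
        (MonoidAlgebra.mapAlgHom (Multiplicative M) (Ideal.Quotient.mkₐ R I)) (MonoidAlgebra.single m x) =
      MonoidAlgebra.single (cl m) (Ideal.Quotient.mk I x) := fun m x => by
    simp [MonoidAlgebra.mapDomainAlgHom, MonoidAlgebra.mapAlgHom, I]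
    rfl
  have hδ₁ : ∀ b m, δ₁ ((δ b).coeff m) = MonoidAlgebra.single (cl m) (Ideal.Quotient.mk I ((δ b).coeff m)) :=
    fun b m => by
      show (MonoidAlgebra.mapDomainAlgHom R C cl).comp
        (MonoidAlgebra.mapAlgHom (Multiplicative M) (Ideal.Quotient.mkₐ R I)) (δ _) = _
      rw [hco, hmd]
  have hIδ : ∀ x ∈ I, δ₁ x = 0 := fun x hx => by
    induction hx using Submodule.span_induction with
    | mem y hy =>
      obtain ⟨b, m, hm, rfl⟩ := hy
      rw [hδ₁, Ideal.Quotient.eq_zero_iff_mem.2 (coeff_mem_attrIdeal N δ b m hm), MonoidAlgebra.single_zero]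
    | zero => simp
    | add x y _ _ hx hy => rw [map_add, hx, hy, add_zero]
    | smul r x _ hx => rw [smul_eq_mul, map_mul, hx, mul_zero]
  let δ' : C →ₐ[R] MonoidAlgebra C (Multiplicative (M ⧸ G)) := Ideal.Quotient.liftₐ I δ₁ hIδ
  -- the degrees of generators
  obtain ⟨s, hs⟩ := (inferInstance : Algebra.FiniteType R B).out
  let degs : Finset (Multiplicative M) := (s.biUnion fun b => (δ b).coeff.support).filter fun m => m.toAdd ∈ N
  let P : AddSubmonoid (M ⧸ G) := AddSubmonoid.closure ↑(degs.image fun m => (m.toAdd : M ⧸ G))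
  haveI : AddMonoid.FG P := (AddMonoid.fg_iff_addSubmonoid_fg P).2 ⟨_, rfl⟩
  have hPN : ∀ p ∈ P, ∃ n ∈ N, (n : M ⧸ G) = p := fun p hp => by
    have : P ≤ N.map (QuotientAddGroup.mk' G) := AddSubmonoid.closure_le.2 fun q hq => by
      obtain ⟨m, hm, rfl⟩ := Finset.mem_image.1 hq
      exact ⟨m.toAdd, (Finset.mem_filter.1 hm).2, rfl⟩
    exact this hp
  have hsharp : ∀ p : P, IsAddUnit p → p = 0 := by
    rintro p ⟨v, rfl⟩
    obtain ⟨n, hn, en⟩ := hPN _ (v : P).2
    obtain ⟨n', hn', en'⟩ := hPN _ ((-v : AddUnits P) : P).2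
    have h0 : ((n + n' : M) : M ⧸ G) = 0 := by
      rw [QuotientAddGroup.mk_add, en, en']
      exact congrArg Subtype.val v.val_neg
    obtain ⟨-, y, hy, hy0⟩ : n + n' ∈ Magnet.unitFace N := (QuotientAddGroup.eq_zero_iff _).1 h0
    refine Subtype.ext (en.symm.trans ((QuotientAddGroup.eq_zero_iff _).2 ?_))
    exact ⟨hn, n' + y, N.add_mem hn' hy, by rw [← add_assoc]; exact hy0⟩
  let ιP : Multiplicative P →* Multiplicative (M ⧸ G) := AddMonoidHom.toMultiplicative P.subtype
  have hιP : Function.Injective ιP := fun x y h => Subtype.val_injective h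
  let E : MonoidAlgebra C (Multiplicative P) →ₐ[R] MonoidAlgebra C (Multiplicative (M ⧸ G)) :=
    MonoidAlgebra.mapDomainAlgHom R C ιP
  have hE : Function.Injective E := fun x y h => by
    exact MonoidAlgebra.mapDomain_injective hιP h
  have hrange : ∀ c, δ' c ∈ E.range := by
    have hgen : ∀ b ∈ s, δ₁ b ∈ E.range := fun b hb => by
      rw [← hcu b, map_finsuppSum]
      refine sum_mem fun m hm => ?_
      dsimp only
      rw [hδ₁]
      by_cases hmN : m.toAdd ∈ N
      · refine ⟨MonoidAlgebra.single (Multiplicative.ofAdd ⟨(m.toAdd : M ⧸ G), AddSubmonoid.subset_closure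
          (Finset.mem_image.2 ⟨m, Finset.mem_filter.2 ⟨Finset.mem_biUnion.2 ⟨b, hb, hm⟩, hmN⟩, rfl⟩)⟩)
          (Ideal.Quotient.mk I ((δ b).coeff m)), ?_⟩
        simp [E, ιP, MonoidAlgebra.mapDomainAlgHom]
        rfl
      · rw [Ideal.Quotient.eq_zero_iff_mem.2 (coeff_mem_attrIdeal N δ b m hmN), MonoidAlgebra.single_zero]
        exact zero_mem _
    have : (⊤ : Subalgebra R B) ≤ (E.range).comap δ₁ := by
      rw [← hs]
      exact Algebra.adjoin_le hgen
    intro c
    obtain ⟨b, rfl⟩ := Ideal.Quotient.mk_surjective c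
    exact this (Algebra.mem_top (x := b))
  let δP : C →ₐ[R] MonoidAlgebra C (Multiplicative P) :=
    (AlgEquiv.ofInjective E hE).symm.toAlgHom.comp (δ'.codRestrict E.range hrange)
  have hδP : ∀ c, E (δP c) = δ' c := fun c => by
    show E ((AlgEquiv.ofInjective E hE).symm ⟨δ' c, hrange c⟩) = δ' c
    exact congrArg Subtype.val ((AlgEquiv.ofInjective E hE).apply_symm_apply ⟨δ' c, hrange c⟩)
  have hEc : ∀ z q, (E z).coeff (ιP q) = z.coeff q := fun z q =>
    Finsupp.mapDomain_apply hιP z.coeff q
  -- coefficients of `δ'`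
  have hδ'c : ∀ b q, (δ' (Ideal.Quotient.mk I b)).coeff q =
      (δ b).coeff.sum fun m x => if cl m = q then Ideal.Quotient.mk I x else 0 := fun b q => by
    show (δ₁ b).coeff q = _
    conv_lhs => rw [← hcu b]
    rw [map_finsuppSum, Finsupp.sum, Finsupp.sum, MonoidAlgebra.coeff_sum, Finsupp.finsetSum_apply]
    refine Finset.sum_congr rfl fun m _ => ?_
    rw [hδ₁, MonoidAlgebra.coeff_single, Finsupp.single_apply]
  have hδ'h : ∀ c q, δ' ((δ' c).coeff q) = MonoidAlgebra.single q ((δ' c).coeff q) := fun c q => by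
    obtain ⟨b, rfl⟩ := Ideal.Quotient.mk_surjective c
    rw [hδ'c, Finsupp.sum, map_sum, ← MonoidAlgebra.singleAddHom_apply, map_sum]
    refine Finset.sum_congr rfl fun m _ => ?_
    split_ifs with h
    · show δ₁ _ = _
      rw [hδ₁, h]
      rfl
    · simp
  have hco' : ∀ c p, δP ((δP c).coeff p) = MonoidAlgebra.single p ((δP c).coeff p) := fun c p => by
    refine hE ?_
    rw [hδP, ← hEc, hδP, hδ'h]
    simp [E, MonoidAlgebra.mapDomainAlgHom]
  have hcu' : ∀ c, (δP c).coeff.sum (fun _ x => x) = c := fun c => by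
    have h1 : (E (δP c)).coeff.sum (fun _ x => x) = (δP c).coeff.sum (fun _ x => x) :=
      Finsupp.sum_mapDomain_index (fun _ => rfl) (fun _ _ _ => rfl)
    rw [← h1, hδP]
    obtain ⟨b, rfl⟩ := Ideal.Quotient.mk_surjective c
    show (δ₁ b).coeff.sum (fun _ x => x) = _
    let aug : MonoidAlgebra C (Multiplicative (M ⧸ G)) →+* C :=
      (MonoidAlgebra.lift C C (Multiplicative (M ⧸ G)) 1).toRingHom
    have haug : ∀ z, aug z = z.coeff.sum (fun _ x => x) := fun z => by
      induction z using MonoidAlgebra.induction_linear with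
      | zero => simp
      | add z w hz hw =>
        rw [map_add, hz, hw, MonoidAlgebra.coeff_add, Finsupp.sum_add_index' (fun _ => rfl) (fun _ _ _ => rfl)]
      | single g x => simp [aug, MonoidAlgebra.lift_single]
    rw [← haug]
    conv_lhs => rw [← hcu b]
    conv_rhs => rw [← hcu b]
    rw [map_finsuppSum, map_finsuppSum, map_finsuppSum]
    refine Finsupp.sum_congr fun m _ => ?_
    rw [hδ₁]
    simp [aug, MonoidAlgebra.lift_single]
  obtain ⟨inst, hproj⟩ := exists_gradedAlgebra δP hco' hcu'
  obtain ⟨Q, _, _, _, _, ⟨e⟩⟩ := Groth.GradedSmooth.main (piece δP) hsharp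
  let ε := Groth.GradedSmooth.eps (piece δP) hsharp
  -- the degree zero part
  have hε : ∀ b, (ε (Ideal.Quotient.mk I b) : C) = Ideal.Quotient.mk I (faceSum N δ b) := fun b => by
    show GradedAlgebra.proj (piece δP) 0 (Ideal.Quotient.mk I b) = _
    rw [hproj, ← hEc, hδP, hδ'c, faceSum, map_finsuppSum]
    refine Finsupp.sum_congr fun m _ => ?_
    have : cl m = ιP (Multiplicative.ofAdd 0) ↔ m.toAdd ∈ Magnet.unitFace N :=
      (Multiplicative.ofAdd.apply_eq_iff_eq.trans (QuotientAddGroup.eq_zero_iff (N := G) m.toAdd) :)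
    simp only [this]
    split_ifs <;> simp
  let φ : B →+* piece δP 0 := (ε : C →+* piece δP 0).comp (Ideal.Quotient.mk I)
  have hIJ : I ≤ J := attrIdeal_mono δ (Magnet.unitFace_le N)
  have hJ : ∀ b, b - faceSum N δ b ∈ J := fun b => by
    conv => arg 2; arg 1; rw [← hcu b]
    rw [faceSum, Finsupp.sum, Finsupp.sum, ← Finset.sum_sub_distrib]
    refine sum_mem fun m _ => ?_
    split_ifs with h
    · simp
    · rw [sub_zero]
      exact coeff_mem_attrIdeal _ δ b m h
  have hker : ∀ b, φ b = 0 ↔ b ∈ J := fun b => by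
    constructor
    · intro h
      have : faceSum N δ b ∈ I := Ideal.Quotient.eq_zero_iff_mem.1 (by rw [← hε]; exact congrArg Subtype.val h)
      simpa using J.add_mem (hJ b) (hIJ this)
    · intro hb
      refine RingHom.mem_ker.1 ((Ideal.span_le.2 ?_ : J ≤ RingHom.ker φ) hb)
      rintro _ ⟨b', m, hm, rfl⟩
      refine Subtype.ext ((hε _).trans ?_)
      rw [faceSum, hco, MonoidAlgebra.coeff_single, Finsupp.sum_single_index (by simp), if_neg hm, map_zero]
      rfl
  let κ₀ : (B ⧸ J) →+* piece δP 0 := Ideal.Quotient.lift J φ fun b hb => (hker b).2 hb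
  have hbij : Function.Bijective κ₀ := by
    refine ⟨?_, fun c => ?_⟩
    · rw [injective_iff_map_eq_zero]
      intro x hx
      obtain ⟨b, rfl⟩ := Ideal.Quotient.mk_surjective x
      exact Ideal.Quotient.eq_zero_iff_mem.2 ((hker b).1 hx)
    · obtain ⟨b, hb⟩ := Ideal.Quotient.mk_surjective (c : C)
      refine ⟨Ideal.Quotient.mk J b, ?_⟩
      show ε (Ideal.Quotient.mk I b) = c
      rw [hb]
      exact Groth.GradedSmooth.eps_coe (piece δP) hsharp c
  let θ : (B ⧸ J) ≃+* piece δP 0 := RingEquiv.ofBijective κ₀ hbij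
  refine ⟨(algebraMap (piece δP 0) C).comp κ₀, fun b => hε b, ?_⟩
  obtain ⟨_, hQ1, hQ2, e', he'⟩ := exists_transfer θ Q
  refine ⟨Q, inferInstance, inferInstance, hQ1, hQ2, e.toRingEquiv.trans e'.symm, fun c => ?_⟩
  show e'.symm (e (algebraMap (piece δP 0) C (θ c))) = _
  rw [e.commutes, ← he', RingEquiv.symm_apply_apply]

end Bundle

end Groth.MagnetBundle
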