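import Groth.Agent.MagnetRetract.Face
import Groth.Agent.MiscGeom.MagnetGrading
import Mathlib.AlgebraicGeometry.ResidueField

/-!
# Attractors of stable open subschemes
-/

set_option autoImplicit false
set_option linter.style.haveILetI false
universe u

open CategoryTheory CategoryTheory.Limits MonoidalCategory CartesianMonoidalCategory MonObj AlgebraicGeometry Opposite
open Magnet Groth.MiscGeom.Mag

noncomputable section

namespace Groth.MagnetBundle

variable {S : Scheme.{u}} {M : Type}

/-- `V` is stable under the action. -/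
abbrev Stable [AddCommMonoid M] {X : Over S} (a : MonAct (AMonS S M) X) (V : X.left.Opens) : Prop :=
  (snd (AMonS S M) X).left ⁻¹ᵁ V ≤ a.act.left ⁻¹ᵁ V

/-- the point `n ↦ [n ∈ N*]` of `A(N)` -/
def e0 [AddCommMonoid M] (N : AddSubmonoid M) (T : Over S) : T ⟶ AMonS S N :=
  (toUnit T ≫ η[AMonS S (unitFace N)]) ≫ AMonS.faceMap S (isFace_unitFace N)

open Classical in
theorem pv_e0 [AddCommMonoid M] (N : AddSubmonoid M) (T : Over S) (n : Multiplicative N) :
    pv (e0 N T) n = if (n.toAdd : M) ∈ unitFace N then 1 else 0 := by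
  rw [e0, Groth.MagnetRetract.pv_faceMap, ← Hom.one_def]
  split_ifs <;> simp [pv_one]

theorem comp_e0 [AddCommMonoid M] (N : AddSubmonoid M) {T T' : Over S} (t : T' ⟶ T) :
    t ≫ e0 N T = e0 N T' := by
  rw [e0, e0, ← Category.assoc, ← Category.assoc, toUnit_unique (t ≫ toUnit T) (toUnit T')]

variable [AddCommGroup M] {X : Over S}

/-- If `g • x` lies in a stable open then so does `x`. -/
theorem stable_symm {a : MonAct (AMonS S M) X} {V : X.left.Opens} (hV : Stable a V) :
    a.act.left ⁻¹ᵁ V ≤ (snd (AMonS S M) X).left ⁻¹ᵁ V := by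
  intro z hz
  let σ : AMonS S M ⊗ X ⟶ AMonS S M ⊗ X :=
    lift (pvPt _
      { toFun := fun m => pv (fst (AMonS S M) X) (Multiplicative.ofAdd (-m.toAdd))
        map_one' := by simp
        map_mul' := fun m n => by
          rw [← map_mul]; congr 1; exact congrArg Multiplicative.ofAdd (neg_add m.toAdd n.toAdd) }) a.act
  have h1 : σ ≫ snd _ _ = a.act := lift_snd _ _
  have h2 : σ ≫ a.act = snd _ _ := by
    have hg : pvPt _
        { toFun := fun m => pv (fst (AMonS S M) X) (Multiplicative.ofAdd (-m.toAdd))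
          map_one' := by simp
          map_mul' := fun m n => by
            rw [← map_mul]; congr 1; exact congrArg Multiplicative.ofAdd (neg_add m.toAdd n.toAdd) } *
        fst (AMonS S M) X = 1 := pv_ext fun m => by
      rw [pv_mul, pv_pvPt, pv_one]
      show pv _ (Multiplicative.ofAdd (-m.toAdd)) * pv _ m = 1
      rw [← map_mul, show Multiplicative.ofAdd (-m.toAdd) * m = 1 from
        congrArg Multiplicative.ofAdd (neg_add_cancel m.toAdd), map_one]
    show lift _ a.act ≫ a.act = snd _ _
    conv_lhs => arg 1; arg 2; rw [← Category.id_comp a.act, ← lift_fst_snd]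
    rw [← a.lift_mul_act, hg, a.lift_one_act]
  have hs : (snd (AMonS S M) X).left (σ.left z) ∈ V := by
    rw [← Scheme.Hom.comp_apply, ← Over.comp_left, h1]
    exact hz
  have h3 : a.act.left (σ.left z) ∈ V := hV hs
  rw [← Scheme.Hom.comp_apply, ← Over.comp_left, h2] at h3
  exact h3

set_option maxHeartbeats 1000000 in
/-- A point of the attractor over a field lands in a stable open as soon as its projection to `N*` does. -/
theorem apply_mem (a : MonAct (AMonS S M) X) {V : X.left.Opens} (hV : Stable a V) (N : AddSubmonoid M)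
    {T : Over S} (φ : (attr a N).obj (op T))
    (h : ∀ t, (lift (e0 N T) (𝟙 T) ≫ φ.1).left t ∈ V) {K : Type u} [Field K]
    (str : Spec (CommRingCat.of K) ⟶ S) (m : Over.mk str ⟶ AMonS S N ⊗ T) (q₁ : Spec (CommRingCat.of K)) :
    (m ≫ φ.1).left q₁ ∈ V := by
  let t := m ≫ snd _ _
  let n := m ≫ fst _ _
  let x : Over.mk str ⟶ X := m ≫ φ.1
  let ψ : AMonS S N ⊗ Over.mk str ⟶ X := (AMonS S N ◁ t) ≫ φ.1
  -- the orbit of `n`
  let χ : Multiplicative N →* K := ((Scheme.ΓSpecIso (CommRingCat.of K)).hom.hom : Γ(Spec (CommRingCat.of K), ⊤) →* K).comp (pv n)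
  let tw : MA K N ⟶ MA K N := CommRingCat.ofHom (MonoidAlgebra.lift K (MA K N) (Multiplicative N)
    { toFun := fun k => MonoidAlgebra.single k (χ k)
      map_one' := by rw [map_one]; rfl
      map_mul' := fun k l => by simp [MonoidAlgebra.single_mul_single] }).toRingHom
  have htw : ∀ (k : Multiplicative N) (c : K),
      tw.hom (MonoidAlgebra.single k c) = MonoidAlgebra.single k (c * χ k) := fun k c => by
    show MonoidAlgebra.lift K (MA K N) (Multiplicative N) _ (MonoidAlgebra.single k c) = _
    rw [MonoidAlgebra.lift_single]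
    simp
  let jN := AMonS.map S N.subtype
  let o : AMonS S M ⊗ Over.mk str ⟶ AMonS S N ⊗ Over.mk str := lift ((fst _ _ ≫ jN) * (snd _ _ ≫ n)) (snd _ _)
  have ho : o ≫ ψ = (AMonS S M ◁ x) ≫ a.act := by
    refine hom_ext_lift₂ fun W g w => ?_
    have hφ := (MonAct.mem_eqvHom_iff φ.1).1 φ.2 W g (w ≫ n) (w ≫ t)
    have hsub : lift g (w ≫ n) ≫ (subAct S M N).act = (g ≫ jN) * (w ≫ n) := by
      dsimp only [subAct, jN]
      rw [MonAct.lift_restrict_act, MonAct.lift_regular_act]
    rw [hsub] at hφ
    have hm : lift (w ≫ n) (w ≫ t) = w ≫ m := by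
      rw [← comp_lift]; exact congrArg (w ≫ ·) (lift_comp_fst_snd m)
    rw [hm] at hφ
    simp only [o, ψ, comp_lift_assoc, MonObj.comp_mul, lift_fst_assoc, lift_snd_assoc,
      lift_whiskerLeft_assoc, x]
    simpa only [Category.assoc] using hφ
  let w : spMA str M ⟶ spMA str N := Over.homMk (Spec.map (tw ≫ maMap K N.subtype)) (by
    show Spec.map _ ≫ Spec.map (maConst K N) ≫ str = Spec.map (maConst K M) ≫ str
    refine (Spec.map_comp_assoc _ _ _).symm.trans (congrArg (fun q => Spec.map q ≫ str) ?_)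
    refine CommRingCat.hom_ext (RingHom.ext fun c => ?_)
    show (maMap K N.subtype).hom (tw.hom (MonoidAlgebra.single 1 c)) = _
    rw [htw, map_one, _root_.mul_one]
    exact DFunLike.congr_fun (congrArg CommRingCat.Hom.hom (maConst_naturality (A := K) N.subtype)) c)
  have hw : w ≫ (specMAIso str N).hom = (specMAIso str M).hom ≫ o := by
    let u1 := specMAIso str M
    refine (specMAIso_lift str (tw ≫ maMap K N.subtype) (𝟙 _) w (Category.id_comp _).symm
      (u1.hom ≫ o ≫ fst _ _) (u1.hom ≫ snd _ _) ?_ fun k => ?_).trans ?_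
    · refine ((specMA_snd str M).trans (congrArg Spec.map ?_)).trans (Category.id_comp _).symm
      refine CommRingCat.hom_ext (RingHom.ext fun c => ?_)
      show _ = (maMap K N.subtype).hom (tw.hom (MonoidAlgebra.single 1 c))
      rw [htw, map_one, _root_.mul_one]
      exact (DFunLike.congr_fun (congrArg CommRingCat.Hom.hom (maConst_naturality (A := K) N.subtype)) c).symm
    · rw [Scheme.Hom.id_appTop]
      show _ = (Scheme.ΓSpecIso _).inv.hom ((maMap K N.subtype).hom (tw.hom (MonoidAlgebra.single k 1)))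
      rw [htw, _root_.one_mul]
      simp only [o, lift_fst, MonObj.comp_mul, pv_mul]
      rw [← Category.assoc u1.hom (fst _ _) jN, pv_map, pv_specMAIso,
        show u1.hom ≫ snd _ _ ≫ n = (u1.hom ≫ snd _ _) ≫ n from (Category.assoc _ _ _).symm, pv_comp]
      rw [show (u1.hom ≫ snd (AMonS S M) (Over.mk str)).left = Spec.map (maConst K M) from specMA_snd str M]
      have e1 : pv n k = (Scheme.ΓSpecIso (CommRingCat.of K)).inv.hom (χ k) := by
        show _ = (Scheme.ΓSpecIso (CommRingCat.of K)).inv.hom ((Scheme.ΓSpecIso (CommRingCat.of K)).hom.hom (pv n k))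
        exact (ConcreteCategory.congr_hom (Scheme.ΓSpecIso (CommRingCat.of K)).hom_inv_id _).symm
      rw [e1]
      erw [← ConcreteCategory.congr_hom (Scheme.ΓSpecIso_inv_naturality (maConst K M)) (χ k)]
      erw [← map_mul]
      show (Scheme.ΓSpecIso _).inv.hom _ = _
      congr 1
      show MonoidAlgebra.single _ 1 * MonoidAlgebra.single 1 (χ k) = MonoidAlgebra.mapDomain _ (MonoidAlgebra.single k (χ k))
      rw [MonoidAlgebra.single_mul_single, MonoidAlgebra.mapDomain_single, _root_.one_mul, _root_.mul_one]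
    · rw [← lift_comp_fst_snd (u1.hom ≫ o)]
      simp [o]
  -- the point `e0`
  classical
  let ev0 : MA K N ⟶ CommRingCat.of K := CommRingCat.ofHom (MonoidAlgebra.lift K K (Multiplicative N)
    { toFun := fun k => if (k.toAdd : M) ∈ unitFace N then 1 else 0
      map_one' := if_pos (zero_mem _)
      map_mul' := fun k l => by
        have := (isFace_unitFace N).add_mem_iff k.toAdd.2 l.toAdd.2
        rw [show ((k * l).toAdd : M) = (k.toAdd : M) + (l.toAdd : M) from rfl]
        by_cases hk : (k.toAdd : M) ∈ unitFace N <;> by_cases hl : (l.toAdd : M) ∈ unitFace N <;>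
          simp [hk, hl, this] }).toRingHom
  have hev : ∀ (k : Multiplicative N) (c : K), ev0.hom (MonoidAlgebra.single k c) =
      if (k.toAdd : M) ∈ unitFace N then c else 0 := fun k c => by
    show MonoidAlgebra.lift K K (Multiplicative N) _ (MonoidAlgebra.single k c) = _
    rw [MonoidAlgebra.lift_single]
    simp
  have hev1 : maConst K N ≫ ev0 = 𝟙 (CommRingCat.of K) := CommRingCat.hom_ext (RingHom.ext fun c => by
    show ev0.hom (MonoidAlgebra.single 1 c) = c
    rw [hev, if_pos]
    exact zero_mem _)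
  let z : Over.mk str ⟶ spMA str N := Over.homMk (Spec.map ev0) (by
    show Spec.map ev0 ≫ Spec.map (maConst K N) ≫ str = str
    rw [← Spec.map_comp_assoc, hev1, Spec.map_id, Category.id_comp])
  have hz : z ≫ (specMAIso str N).hom = lift (e0 N (Over.mk str)) (𝟙 _) := by
    refine specMAIso_lift str ev0 (𝟙 _) z (Category.id_comp _).symm _ _ ?_ fun k => ?_
    · rw [hev1, Spec.map_id, Category.comp_id]
      rfl
    · rw [pv_e0, hev, Scheme.Hom.id_appTop]
      show _ = (Scheme.ΓSpecIso (CommRingCat.of K)).inv.hom _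
      split_ifs <;> simp <;> rfl
  by_contra hx
  have hxp : ∀ q, x.left q ∉ V := fun q => by
    haveI : Subsingleton (Over.mk str).left := inferInstanceAs (Subsingleton (PrimeSpectrum K))
    rw [show q = q₁ from Subsingleton.elim _ _]
    exact hx
  have hy : ∀ q, (lift (e0 N (Over.mk str)) (𝟙 _) ≫ ψ).left q ∈ V := fun q => by
    have e : lift (e0 N (Over.mk str)) (𝟙 _) ≫ ψ = t ≫ lift (e0 N T) (𝟙 T) ≫ φ.1 := by
      rw [lift_whiskerLeft_assoc, comp_lift_assoc, comp_e0, Category.id_comp, Category.comp_id]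
    rw [e]
    exact h (t.left q)
  -- a basic open around `e0`
  let U' : (Spec (MA K N)).Opens := ((specMAIso str N).hom ≫ ψ).left ⁻¹ᵁ V
  let q0 : Spec (CommRingCat.of K) := IsLocalRing.closedPoint K
  have hq0 : (Spec.map ev0) q0 ∈ U' := by
    show ((specMAIso str N).hom ≫ ψ).left (z.left q0) ∈ V
    rw [← Scheme.Hom.comp_apply, ← Over.comp_left, reassoc_of% hz]
    exact hy q0
  obtain ⟨_, ⟨_, ⟨f, rfl⟩, rfl⟩, hf0, hfU⟩ := PrimeSpectrum.isBasis_basic_opens.exists_subset_of_mem_open hq0 U'.isOpen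
  have hnil : IsNilpotent ((maMap K N.subtype).hom (tw.hom f)) := by
    rw [← PrimeSpectrum.basicOpen_eq_bot_iff]
    refine TopologicalSpace.Opens.ext (Set.eq_empty_of_forall_notMem fun q hq => ?_)
    have h1 : ((specMAIso str N).hom ≫ ψ).left (w.left q) ∈ V := hfU hq
    rw [← Scheme.Hom.comp_apply, ← Over.comp_left, reassoc_of% hw, ho, ← Category.assoc] at h1
    have h2 : (snd (AMonS S M) X).left (((specMAIso str M).hom ≫ (AMonS S M ◁ x)).left q) ∈ V :=
      stable_symm hV h1
    rw [← Scheme.Hom.comp_apply, ← Over.comp_left, Category.assoc, whiskerLeft_snd, ← Category.assoc] at h2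
    exact hxp _ h2
  have hnil' : IsNilpotent (tw.hom f) := by
    obtain ⟨k, hk⟩ := hnil
    exact ⟨k, maMap_injective (A := K) N.subtype Subtype.val_injective (by
      rw [map_pow, hk, map_zero])⟩
  let θ : MA K N →+* K := (MonoidAlgebra.lift K K (Multiplicative N)
    { toFun := fun k => if (k.toAdd : M) ∈ unitFace N then (χ k)⁻¹ else 0
      map_one' := by rw [if_pos (show ((1 : Multiplicative N).toAdd : M) ∈ unitFace N from zero_mem _), map_one, inv_one]
      map_mul' := fun k l => by
        have := (isFace_unitFace N).add_mem_iff k.toAdd.2 l.toAdd.2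
        rw [show ((k * l).toAdd : M) = (k.toAdd : M) + (l.toAdd : M) from rfl]
        by_cases hk : (k.toAdd : M) ∈ unitFace N <;> by_cases hl : (l.toAdd : M) ∈ unitFace N <;>
          simp [hk, hl, this, _root_.mul_comm] }).toRingHom
  have hθ : θ.comp tw.hom = ev0.hom := by
    refine MonoidAlgebra.ringHom_ext (fun c => ?_) fun k => ?_
    · show θ (tw.hom (MonoidAlgebra.single 1 c)) = ev0.hom (MonoidAlgebra.single 1 c)
      rw [htw, hev]
      show MonoidAlgebra.lift K K (Multiplicative N) _ _ = _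
      rw [MonoidAlgebra.lift_single]
      simp [map_one]
    · show θ (tw.hom (MonoidAlgebra.single k 1)) = ev0.hom (MonoidAlgebra.single k 1)
      rw [htw, hev]
      show MonoidAlgebra.lift K K (Multiplicative N) _ _ = _
      rw [MonoidAlgebra.lift_single]
      simp only [MonoidHom.coe_mk, OneHom.coe_mk, _root_.one_mul, smul_eq_mul]
      split_ifs with hk
      · obtain ⟨-, y, hy', hky⟩ := hk
        have hne : χ k ≠ 0 := left_ne_zero_of_mul_eq_one (b := χ (Multiplicative.ofAdd ⟨y, hy'⟩)) (by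
          rw [← map_mul, show k * Multiplicative.ofAdd ⟨y, hy'⟩ = 1 from
            Multiplicative.toAdd.injective (Subtype.ext hky), map_one])
        exact mul_inv_cancel₀ hne
      · exact mul_zero _
  have hzero : ev0.hom f = 0 := by
    rw [← hθ]
    exact (hnil'.map θ).eq_zero
  exact hf0 (by
    show ev0.hom f ∈ q0.asIdeal
    rw [hzero]
    exact zero_mem _)

/-- A point of the attractor lands in a stable open as soon as its projection to `N*` does. -/
theorem range_subset (a : MonAct (AMonS S M) X) {V : X.left.Opens} (hV : Stable a V) (N : AddSubmonoid M)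
    {T : Over S} (φ : (attr a N).obj (op T))
    (h : ∀ t, (lift (e0 N T) (𝟙 T) ≫ φ.1).left t ∈ V) : Set.range φ.1.left ⊆ V := by
  rintro _ ⟨p, rfl⟩
  let P := (AMonS S N ⊗ T).left
  let i : Spec (CommRingCat.of (P.residueField p)) ⟶ P := P.fromSpecResidueField p
  let m : Over.mk (i ≫ (AMonS S N ⊗ T).hom) ⟶ AMonS S N ⊗ T := Over.homMk i rfl
  have := apply_mem a hV N φ h _ m (IsLocalRing.closedPoint _)
  change φ.1.left ((P.fromSpecResidueField p) _) ∈ V at this
  rwa [Scheme.fromSpecResidueField_apply] at this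

/-- the restriction of the action to a stable open -/
theorem exists_restrict (a : MonAct (AMonS S M) X) {V : X.left.Opens} (hV : Stable a V) :
    ∃ b : MonAct (AMonS S M) (Over.mk (V.ι ≫ X.hom)),
      MonAct.IsEquivariant b a (Over.homMk V.ι rfl : Over.mk (V.ι ≫ X.hom) ⟶ X) := by
  let ιV : Over.mk (V.ι ≫ X.hom) ⟶ X := Over.homMk V.ι rfl
  haveI : Mono ιV := (Over.forget S).mono_of_mono_map (inferInstanceAs (Mono V.ι))
  have hr : Set.range ((AMonS S M ◁ ιV) ≫ a.act).left ⊆ Set.range V.ι := by
    rintro _ ⟨z, rfl⟩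
    rw [Scheme.Opens.range_ι, Over.comp_left, Scheme.Hom.comp_apply]
    refine hV (?_ : (snd (AMonS S M) X).left ((AMonS S M ◁ ιV).left z) ∈ V)
    rw [← Scheme.Hom.comp_apply, ← Over.comp_left, whiskerLeft_snd, Over.comp_left, Scheme.Hom.comp_apply]
    exact ((snd (AMonS S M) (Over.mk (V.ι ≫ X.hom))).left z).2
  let act : AMonS S M ⊗ Over.mk (V.ι ≫ X.hom) ⟶ Over.mk (V.ι ≫ X.hom) :=
    Over.homMk (IsOpenImmersion.lift V.ι _ hr) (by
      show _ ≫ V.ι ≫ X.hom = _
      rw [IsOpenImmersion.lift_fac_assoc]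
      exact Over.w _)
  have hact : act ≫ ιV = (AMonS S M ◁ ιV) ≫ a.act := Over.OverMorphism.ext (IsOpenImmersion.lift_fac _ _ _)
  refine ⟨MonAct.mk' act (fun W w => ?_) (fun W g g' w => ?_), hact⟩
  · rw [← cancel_mono ιV, Category.assoc, hact, lift_whiskerLeft_assoc, a.lift_one_act]
  · rw [← cancel_mono ιV, Category.assoc, hact, lift_whiskerLeft_assoc, Category.assoc, hact,
      lift_whiskerLeft_assoc, Category.assoc, hact, lift_whiskerLeft_assoc, a.lift_mul_act]

set_option maxHeartbeats 1000000 in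
/-- The attractor of a stable open consists of the points whose projection to `N*` lands in it. -/
theorem exists_attr_lift (a : MonAct (AMonS S M) X) {V : X.left.Opens} (hV : Stable a V)
    (b : MonAct (AMonS S M) (Over.mk (V.ι ≫ X.hom)))
    (hb : MonAct.IsEquivariant b a (Over.homMk V.ι rfl : Over.mk (V.ι ≫ X.hom) ⟶ X))
    (N : AddSubmonoid M) {T : Over S} (φ : (attr a N).obj (op T))
    (h : ∀ t, (lift (e0 N T) (𝟙 T) ≫ φ.1).left t ∈ V) :
    ∃ ψ : (attr b N).obj (op T), (MonAct.eqvHom.postcomp (subAct S M N) _ hb).app (op T) ψ = φ := by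
  let ιV : Over.mk (V.ι ≫ X.hom) ⟶ X := Over.homMk V.ι rfl
  haveI : Mono ιV := (Over.forget S).mono_of_mono_map (inferInstanceAs (Mono V.ι))
  have hr : Set.range φ.1.left ⊆ Set.range V.ι := by
    rw [Scheme.Opens.range_ι]
    exact range_subset a hV N φ h
  let ψ : AMonS S N ⊗ T ⟶ Over.mk (V.ι ≫ X.hom) := Over.homMk (IsOpenImmersion.lift V.ι _ hr) (by
    show _ ≫ V.ι ≫ X.hom = _
    rw [IsOpenImmersion.lift_fac_assoc]
    exact Over.w _)
  have hψ : ψ ≫ ιV = φ.1 := Over.OverMorphism.ext (IsOpenImmersion.lift_fac _ _ _)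
  refine ⟨⟨ψ, ?_⟩, Subtype.ext hψ⟩
  have hb' : b.act ≫ ιV = (AMonS S M ◁ ιV) ≫ a.act := hb
  unfold MonAct.IsEquivariant
  rw [← cancel_mono ιV, Category.assoc, Category.assoc, hψ, hb', ← whiskerLeft_comp_assoc, hψ]
  exact φ.2

end Groth.MagnetBundle
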