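import Groth.Agent.MagnetBundle.Affine

/-!
# Degrees controlling all attractors of an `S`-affine scheme
-/

set_option autoImplicit false
set_option linter.style.haveILetI false
universe u

open CategoryTheory CategoryTheory.Limits MonoidalCategory CartesianMonoidalCategory MonObj AlgebraicGeometry Opposite
open Magnet Groth.MiscGeom.Mag

noncomputable section

namespace Groth.MagnetBundle

variable {S : Scheme.{u}} {M : Type} [AddCommMonoid M]

/-- The orbit condition is controlled by the degrees of algebra generators. -/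
theorem good_of_degrees {R : CommRingCat.{u}} (str : Spec R ⟶ S) {Y : Over S} [IsAffineHom Y.hom]
    (b : MonAct (AMonS S M) Y) (s : Finset (gB str Y))
    (hs : ∀ K : Subring (gB str Y), Set.range (gGam str Y).hom ⊆ K → (s : Set (gB str Y)) ⊆ K → K = ⊤)
    {N L : AddSubmonoid M}
    (h : ∀ x ∈ s, ∀ m ∈ ((gDelta str b).hom x).coeff.support, m.toAdd ∈ N → m.toAdd ∈ L)
    {C : CommRingCat.{u}} (τ : gB str Y ⟶ C) (hN : Good N b (gPt str τ)) : Good L b (gPt str τ) := by
  rw [good_gPt_iff] at hN ⊢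
  have hN' : ∀ x (m : Multiplicative M), m.toAdd ∉ N → τ.hom (((gDelta str b).hom x).coeff m) = 0 :=
    fun x m hm => hN (Ideal.subset_span ⟨x, m, hm, rfl⟩)
  let ρ : gB str Y →+* MA C M := (gDelta str b ≫ maBase τ M).hom
  let K : Subring (gB str Y) := ((maMap C L.subtype).hom.range).comap ρ
  have hc : ∀ x m, (ρ x).coeff m = τ.hom (((gDelta str b).hom x).coeff m) := fun x m =>
    MonoidAlgebra.coeff_mapRingHom τ.hom _ m
  have hr : ∀ z : MA C M, z ∈ (maMap C L.subtype).hom.range ↔
      ∀ m : Multiplicative M, m.toAdd ∉ L → z.coeff m = 0 := fun z => by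
    have hinj : Function.Injective (AddMonoidHom.toMultiplicative L.subtype) := fun x y h => Subtype.val_injective h
    constructor
    · rintro ⟨y, rfl⟩ m hm
      exact Finsupp.mapDomain_of_notMem_range _ _ fun ⟨n, hn⟩ => hm (hn ▸ n.toAdd.2)
    · intro hz
      rw [← MonoidAlgebra.sum_coeff_single z]
      refine Subring.sum_mem _ fun m hm => ?_
      refine ⟨MonoidAlgebra.single (Multiplicative.ofAdd ⟨m.toAdd, ?_⟩) (z.coeff m),
        MonoidAlgebra.mapDomain_single⟩
      by_contra hmL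
      exact Finsupp.mem_support_iff.1 hm (hz m hmL)
  have hK : K = ⊤ := by
    refine hs K ?_ fun x hx => (hr _).2 fun m hm => ?_
    · rintro _ ⟨r, rfl⟩
      refine ⟨MonoidAlgebra.single 1 ((gGam str Y ≫ τ).hom r), ?_⟩
      have e := DFunLike.congr_fun (congrArg CommRingCat.Hom.hom
        (show gGam str Y ≫ gDelta str b ≫ maBase τ M = (gGam str Y ≫ τ) ≫ maConst C M by
          rw [reassoc_of% (gGam_gDelta str b), maConst_maBase, Category.assoc])) r
      exact MonoidAlgebra.mapDomain_single.trans e.symm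
    · rw [hc]
      by_cases hmN : m.toAdd ∈ N
      · by_contra hne
        exact hm (h x hx m (Finsupp.mem_support_iff.2 fun h0 => hne (by rw [h0, map_zero])) hmN)
      · exact hN' x m hmN
  refine Ideal.span_le.2 ?_
  rintro _ ⟨x, m, hm, rfl⟩
  have hx : ρ x ∈ (maMap C L.subtype).hom.range := (show x ∈ K from hK ▸ Subring.mem_top x)
  exact (hc x m).symm.trans ((hr _).1 hx m hm)

/-- Finitely many degrees control all attractors, over a quasi-compact base. -/
theorem exists_degrees [CompactSpace S] {Y : Over S} [IsAffineHom Y.hom] [LocallyOfFinitePresentation Y.hom]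
    (b : MonAct (AMonS S M) Y) :
    ∃ D : Finset M, ∀ N L : AddSubmonoid M, (∀ d ∈ D, d ∈ N → d ∈ L) →
      ∀ (T : Over S) (x : T ⟶ Y), Good N b x → Good L b x := by
  classical
  haveI : IsSeparated Y.hom := inferInstance
  let 𝒰 := S.affineCover.finiteSubcover
  have gen : ∀ i : 𝒰.I₀, ∃ D : Finset M, ∀ (N L : AddSubmonoid M), (∀ d ∈ D, d ∈ N → d ∈ L) →
      ∀ (C : CommRingCat.{u}) (str₁ : Spec C ⟶ S) (x : Over.mk str₁ ⟶ Y), Set.range str₁ ⊆ Set.range (𝒰.f i) →
        Good N b x → Good L b x := by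
    intro i
    haveI : IsAffine (𝒰.X i) := inferInstance
    let str : Spec Γ(𝒰.X i, ⊤) ⟶ S := (𝒰.X i).isoSpec.inv ≫ 𝒰.f i
    have hγ : (gGam str Y).hom.FiniteType := by
      have h : LocallyOfFiniteType (Spec.map (gGam str Y)) := by
        rw [specMap_gGam]
        infer_instance
      exact (HasRingHomProperty.Spec_iff (P := @LocallyOfFiniteType)).1 h
    letI := (gGam str Y).hom.toAlgebra
    obtain ⟨s, hs⟩ := (show Algebra.FiniteType Γ(𝒰.X i, ⊤) (gB str Y) from hγ).out
    refine ⟨s.biUnion fun x => ((gDelta str b).hom x).coeff.support.image Multiplicative.toAdd,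
      fun N L hNL C str₁ x hr hN => ?_⟩
    have hr' : Set.range str₁ ⊆ Set.range str := by
      refine hr.trans ?_
      rintro _ ⟨p, rfl⟩
      refine ⟨(𝒰.X i).isoSpec.hom p, ?_⟩
      rw [← Scheme.Hom.comp_apply]
      simp [str]
    let c : Spec C ⟶ Spec Γ(𝒰.X i, ⊤) := IsOpenImmersion.lift str str₁ hr'
    have hc : Spec.map (Spec.preimage c) ≫ str = str₁ := by
      rw [Spec.map_preimage]
      exact IsOpenImmersion.lift_fac _ _ _
    obtain ⟨τ, hτ1, hτ2⟩ := exists_gHom str Y x.left (Spec.preimage c) ((Over.w x).trans hc.symm)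
    obtain rfl : Spec.map (gGam str Y ≫ τ) ≫ str = str₁ := by rw [hτ1, hc]
    obtain rfl : x = gPt str τ := Over.OverMorphism.ext hτ2.symm
    refine good_of_degrees str b s (fun K h1 h2 => ?_) (fun y hy m hm hmN => hNL _
      (Finset.mem_biUnion.2 ⟨y, hy, Finset.mem_image_of_mem _ hm⟩) hmN) τ hN
    let K' : Subalgebra Γ(𝒰.X i, ⊤) (gB str Y) :=
      { K.toSubsemiring with algebraMap_mem' := fun r => h1 ⟨r, rfl⟩ }
    have : ⊤ ≤ K' := hs ▸ Algebra.adjoin_le h2
    exact top_le_iff.1 fun y _ => this Algebra.mem_top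
  choose D hD using gen
  haveI : Fintype 𝒰.I₀ := Fintype.ofFinite _
  refine ⟨Finset.univ.biUnion D, fun N L hNL T x hN => ?_⟩
  refine good_local L b x ((𝒰.pullback₁ T.hom).bind fun _ => Scheme.affineCover _) fun j => ?_
  let 𝒱 := (𝒰.pullback₁ T.hom).bind fun k => Scheme.affineCover ((𝒰.pullback₁ T.hom).X k)
  haveI : IsAffine (𝒱.X j) := inferInstanceAs (IsAffine ((Scheme.affineCover _).X j.2))
  let e : Over.mk ((𝒱.X j).isoSpec.inv ≫ 𝒱.f j ≫ T.hom) ≅ Over.mk (𝒱.f j ≫ T.hom) :=
    Over.isoMk (𝒱.X j).isoSpec.symm rfl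
  have h := hD j.1 N L (fun d hd => hNL d (Finset.mem_biUnion.2 ⟨j.1, Finset.mem_univ _, hd⟩)) _ _
    (e.hom ≫ (Over.homMk (𝒱.f j) : Over.mk (𝒱.f j ≫ T.hom) ⟶ T) ≫ x) (by
      rintro _ ⟨p, rfl⟩
      refine ⟨(pullback.snd T.hom (𝒰.f j.1)) ((Scheme.affineCover _).f j.2 ((𝒱.X j).isoSpec.inv p)), ?_⟩
      rw [← Scheme.Hom.comp_apply, ← pullback.condition]
      rfl)
    ((hN.comp N b _).comp N b _)
  have h' := h.comp L b e.inv
  rwa [Iso.inv_hom_id_assoc] at h'

end Groth.MagnetBundle
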